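import Cfsg.Agent.H690.OwnD.Mem
import Cfsg.Agent.S4730
import Cfsg.Agent.Blocks.BlockKer
import Cfsg.Agent.Blocks.ExistsModular
import Cfsg.Agent.S1059

/-!
# Characters of prime power degree in the own characteristic (helper447)

* `eq_zero_or_full` : `S` simple of Lie type in characteristic `p`, `χ` irreducible of degree `p ^ n`: then `n = 0` or
  `n` is the full exponent of `p` in `|S|` (Burnside at a central element of a Sylow subgroup, and the principal
  `p`-block).
* `g2_pow` : an irreducible character of `G₂(q)`, `q ≥ 3`, of degree `q ^ k`: `k = 0` or `k = 6`.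
-/

set_option autoImplicit false

open Cfsg
open Cfsg.Agent.Blocks.Basic

namespace Cfsg.Agent.H447.TC

universe u

theorem faithful {X : Type u} [Group X] [Finite X] (hs : IsSimpleGroup X) {χ : X → ℂ} (hχ : IsIrrCharacter X χ)
    (h1 : χ 1 ≠ 1) {x : X} (hx : χ x = χ 1) : x = 1 := by
  classical
  have : Fintype X := Fintype.ofFinite X
  obtain ⟨K, hK, hKmem⟩ := Cfsg.Agent.Blocks.BlockKer.exists_kernel hχ
  rcases hK.eq_bot_or_eq_top with h | h
  · have h1 := (hKmem x).2 hx
    rwa [h, Subgroup.mem_bot] at h1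
  · exfalso
    have h2 : ∀ g, χ g = χ 1 := fun g => (hKmem g).1 (by rw [h]; trivial)
    obtain ⟨n, hn0, hn⟩ := Cfsg.Agent.Characters.Core.isIrr_apply_one hχ
    have h3 := Cfsg.Agent.Characters.Core.classInner_irr_self hχ
    rw [classInner_def, Finset.sum_congr rfl fun g _ => by rw [h2 g, hn], Finset.sum_const, Finset.card_univ,
      nsmul_eq_mul, ← Nat.card_eq_fintype_card, ← mul_assoc, inv_mul_cancel₀ (Nat.cast_ne_zero.2 Nat.card_pos.ne'),
      one_mul, Complex.conj_natCast, ← Nat.cast_mul] at h3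
    have h4 : n * n = 1 := by exact_mod_cast h3
    exact h1 (by rw [hn, Nat.eq_one_of_mul_eq_one_right h4, Nat.cast_one])

/-- A simple group of Lie type in characteristic `p`: a character degree which is a power of `p` is `1` or the full
power of `p` in the order. -/
theorem eq_zero_or_full {S : Type u} [Group S] [Finite S] {p : ℕ} [Fact p.Prime] (hL : IsLieTypeChar p S)
    (χ : IrrCharacter S) {n : ℕ} (hd : charDegree (χ : S → ℂ) = p ^ n) :
    n = 0 ∨ n = (Nat.card S).factorization p := by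
  have hp : p.Prime := Fact.out
  have hs : IsSimpleGroup S := H400.LieSimple.isSimple_of_lie hL
  by_contra hcon
  rw [not_or] at hcon
  obtain ⟨hn0, hnf⟩ := hcon
  obtain ⟨M, hM⟩ := Cfsg.Agent.Blocks.ExistsModular.exists_isPModular hp
  have hMp : M.IsPrime := hM.2.1.isPrime
  -- the degree divides the order
  have hdvd : charDegree (χ : S → ℂ) ∣ Nat.card S := H674.Codegree.charDegree_dvd_card χ.2
  have hle : n ≤ (Nat.card S).factorization p :=
    (hp.pow_dvd_iff_le_factorization Nat.card_pos.ne').1 (hd ▸ hdvd)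
  -- principal block
  have hmem : χ ∈ principalBlock M S := by
    by_contra h
    have h1 := H690.OwnD.dz_own hL hM h
    rw [hd, Nat.pow_dvd_pow_iff_le_right hp.one_lt] at h1
    exact hnf (le_antisymm hle h1)
  have hB : blockOf M (χ : S → ℂ) = principalBlock M S :=
    (blockOf_eq_of_sameBlock (M := M) (mem_blockOf.1 hmem)).symm
  have h1 : (χ : S → ℂ) 1 ≠ 1 := by
    intro h
    rw [irr_one_eq_charDegree χ.2, hd] at h
    have h2 : p ^ n = 1 := by exact_mod_cast h
    exact (Nat.one_lt_pow hn0 hp.one_lt).ne' h2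
  have hcomm : Subgroup.center S = ⊥ :=
    H400.LieLocal.center_eq_bot (H330.Gow.hasSplit_of_ab (H716.SplitAb.hasSplitAb_of_lie hp hL))
  obtain ⟨P⟩ := (inferInstance : Nonempty (Sylow p S))
  obtain ⟨b, hb⟩ := (IsPGroup.iff_card.1 (P.isPGroup'.to_subgroup (Subgroup.center ↥(P : Subgroup S))))
  have hP := P.card_eq_multiplicity
  have hr := S4730.result p M hM hcomm P _ b hP hb χ (fun g hg => faithful hs χ.2 h1 hg) n hd
  have hdef : blockDefect p (blockOf M (χ : S → ℂ)) = (Nat.card S).factorization p := by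
    rw [hB, blockDefect]
    have h2 : sInf ((fun ψ : IrrCharacter S => (charDegree (ψ : S → ℂ)).factorization p) '' principalBlock M S) = 0 := by
      refine Nat.sInf_eq_zero.2 (Or.inl ⟨⟨fun _ => 1, Cfsg.Agent.Characters.Core.isIrr_one⟩, ?_, ?_⟩)
      · exact mem_blockOf_self (M := M) (⟨fun _ => 1, Cfsg.Agent.Characters.Core.isIrr_one⟩ : IrrCharacter S)
      · have h3 : charDegree (fun _ : S => (1 : ℂ)) = 1 := by simp [charDegree]
        simp [h3]
    rw [h2, Nat.sub_zero]
  have hb1 : b ≠ 0 := by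
    rintro rfl
    have h2 : Nontrivial ↥(P : Subgroup S) := by
      rw [← Finite.one_lt_card_iff_nontrivial, hP]
      exact Nat.one_lt_pow (by omega) hp.one_lt
    have h3 := P.isPGroup'.center_nontrivial
    rw [← Finite.one_lt_card_iff_nontrivial, hb, pow_zero] at h3
    exact lt_irrefl _ h3
  have ha1 : (Nat.card S).factorization p ≠ 0 := by omega
  have := hr.1
  rw [hdef] at this
  omega

theorem lie_g2 {F : Type} [Field F] [Fintype F] (p : ℕ) [CharP F p] (h : 3 ≤ Fintype.card F) :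
    IsLieTypeChar p ↥(Lie.chevG2.group F) :=
  Or.inr (Or.inr (Or.inr (Or.inr (Or.inr (Or.inr (Or.inl
    ⟨F, inferInstance, inferInstance, inferInstance, Or.inl ⟨h, ⟨MulEquiv.refl _⟩⟩⟩))))))

/-- An irreducible character of `G₂(q)`, `q ≥ 3`, of degree `q ^ k`: trivial or Steinberg degree. -/
theorem g2_pow {F : Type} [Field F] [Fintype F] (h3 : 3 ≤ Fintype.card F)
    (χ : IrrCharacter ↥(Lie.chevG2.group F)) {k : ℕ}
    (hd : charDegree (χ : ↥(Lie.chevG2.group F) → ℂ) = Fintype.card F ^ k) : k = 0 ∨ k = 6 := by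
  obtain ⟨p, hpc⟩ := CharP.exists F
  obtain ⟨f, hp, hq⟩ := FiniteField.card F p
  have : Fact p.Prime := ⟨hp⟩
  have hf : (f : ℕ) ≠ 0 := f.ne_zero
  have hcard := S1059.result (F := F) hq
  have h1 : charDegree (χ : ↥(Lie.chevG2.group F) → ℂ) = p ^ ((f : ℕ) * k) := by rw [hd, hq, pow_mul]
  have hq3 : 3 ≤ p ^ (f : ℕ) := hq ▸ h3
  have hfac : (Nat.card ↥(Lie.chevG2.group F)).factorization p = (f : ℕ) * 6 := by
    have h2 : ∀ j : ℕ, j ≠ 0 → ¬ p ∣ (p ^ (f : ℕ)) ^ j - 1 := by
      intro j hj h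
      have h4 : p ∣ (p ^ (f : ℕ)) ^ j := (dvd_pow_self p hf).trans (dvd_pow_self _ hj)
      have h5 : 1 ≤ (p ^ (f : ℕ)) ^ j := Nat.one_le_iff_ne_zero.2 (by positivity)
      have h6 := (Nat.dvd_sub_iff_right h5 h4).1 h
      exact hp.one_lt.ne' (Nat.dvd_one.1 h6)
    have h7 : ∀ j : ℕ, j ≠ 0 → (p ^ (f : ℕ)) ^ j - 1 ≠ 0 := by
      intro j hj
      have : 1 < (p ^ (f : ℕ)) ^ j := Nat.one_lt_pow hj (by omega)
      omega
    rw [hcard, Nat.factorization_mul (mul_ne_zero (by positivity) (h7 2 (by norm_num))) (h7 6 (by norm_num)),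
      Nat.factorization_mul (by positivity) (h7 2 (by norm_num)), Finsupp.add_apply, Finsupp.add_apply,
      Nat.factorization_eq_zero_of_not_dvd (h2 2 (by norm_num)),
      Nat.factorization_eq_zero_of_not_dvd (h2 6 (by norm_num)), ← pow_mul, hp.factorization_pow,
      Finsupp.single_eq_same, add_zero, add_zero]
  rcases eq_zero_or_full (lie_g2 p h3) χ h1 with h | h
  · exact Or.inl ((Nat.mul_eq_zero.1 h).resolve_left hf)
  · rw [hfac] at h
    exact Or.inr (Nat.eq_of_mul_eq_mul_left (Nat.pos_of_ne_zero hf) h)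

/-- **No irreducible character of `G₂(q)`, `q ≥ 3`, has degree `q ^ 3`.** -/
theorem g2_ne_cube {F : Type} [Field F] [Fintype F] (h3 : 3 ≤ Fintype.card F)
    (χ : IrrCharacter ↥(Lie.chevG2.group F)) :
    charDegree (χ : ↥(Lie.chevG2.group F) → ℂ) ≠ Fintype.card F ^ 3 := by
  intro h
  have := g2_pow h3 χ h
  omega

end Cfsg.Agent.H447.TC
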