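import Cfsg.Agent.H177.OM.GTwoReal
import Cfsg.Agent.H541.PRegG2
import Cfsg.Agent.S1059

/-!
# The tori of order `q² - q + 1` and `q² + q + 1` of `G₂(q)` with normalizer and reality (helper447, S2464)

* `TorD G m` : a cyclic subgroup `T` of order `m` with `C(y) = T` for `y ∈ T`, `y ^ 3 ≠ 1`, `|N(T)| = 6 m`, and an
  element of `G` inverting `T`;
* `tori6`, `tori3`.
-/

set_option autoImplicit false

open Cfsg Cfsg.Lie
open Cfsg.Agent.H129 Cfsg.Agent.H129.TorusChar Cfsg.Agent.H129.CycT Cfsg.Agent.OrdDiv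
open Cfsg.Agent.H541.PRegTorus Cfsg.Agent.H541.PRegArith Cfsg.Agent.H541.PRegG2

namespace Cfsg.Agent.H447.TC

universe u

/-- A cyclic subgroup of order `m`, self-centralising outside its elements of order dividing 3, with normalizer of
order `6 m`, and real. -/
def TorD (G : Type u) [Group G] (m : ℕ) : Prop :=
  ∃ T : Subgroup G, IsCyclic ↥T ∧ Nat.card ↥T = m ∧ (∀ y ∈ T, y ^ 3 ≠ 1 → Subgroup.centralizer {y} = T) ∧
    Nat.card ↥(Subgroup.normalizer (T : Set G)) = 6 * m ∧ ∃ n : G, ∀ b ∈ T, n * b * n⁻¹ = b⁻¹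

variable {F : Type u} [Field F] [Fintype F] {q : ℕ}

theorem card_split (hF : Fintype.card F = q) (hq : 2 ≤ q) : Nat.card ↥(chevG2.group F) =
    q ^ 6 * ((q - 1) ^ 2 * ((q + 1) ^ 2 * ((q ^ 2 + q + 1) * (q ^ 2 - q + 1)))) := by
  rw [Cfsg.Agent.S1059.result hF, mul_assoc, card_eq hq]

theorem tori6 (hF : Fintype.card F = q) (hq : 3 ≤ q) : TorD ↥(chevG2.group F) (q ^ 2 - q + 1) := by
  have hfW : Finite CoxeterMatrix.G₂.Group := Nat.finite_of_card_ne_zero (by rw [cardW_G2]; norm_num)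
  have hN : ((q ^ 2 - q + 1 : ℕ) : ℤ) = 1 - (q : ℤ) + (q : ℤ) ^ 2 := cast6 (by omega)
  obtain ⟨h2, h5, h9⟩ := N6_not (q := q) (by omega)
  have h3q : 3 < q ^ 2 - q + 1 := by
    have : ((3 : ℕ) : ℤ) < ((q ^ 2 - q + 1 : ℕ) : ℤ) := by
      rw [hN]; push_cast; have : (3 : ℤ) ≤ q := by exact_mod_cast hq
      nlinarith
    exact_mod_cast this
  obtain ⟨T, hc, hm, hT3, hT4⟩ := H177.OM.untw_inv typeG2 CoxeterMatrix.G₂.toCoxeterSystem (by norm_num) hF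
    TorusChar.invC_G2 DataG2h.hA DataG2h.chainOK DataG2h.cycOK DataG2h.rootOK (N := q ^ 2 - q + 1)
    (by rw [DataG2h.fN_eq, hN]) (UntwData.coprime_of_eq (a := -1 + (q : ℤ)) (by rw [hN]; ring))
    (H177.OM.rep_neg typeG2 CoxeterMatrix.G₂.toCoxeterSystem DataG2.hA H177.OM.chainG2_ok H177.OM.chainG2_hd)
  have hcent : ∀ y ∈ T, y ^ 3 ≠ 1 → Subgroup.centralizer {y} = T := by
    refine cent_of_prime hc fun k hk hk3 => ?_
    rw [hm] at hk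
    obtain ⟨r, hr, hrk, hr3⟩ := exists_prime_ne (t := 3) (N := q ^ 2 - q + 1) (by omega) hk (by norm_num; exact h9) hk3
    have hg := good_G2_6 hN hr (hrk.trans hk) hr3
    exact ⟨r, hr, hrk, hT3 r hr hg.1 hg.2⟩
  obtain ⟨s, hs, hsN, hs7⟩ := exists_prime_ge_seven h2 h5 h9 h3q
  have hgs := good_G2_6 hN hs hsN (by omega)
  refine ⟨T, hc, hm, hcent, ?_, hT4 s hs hsN hgs.1 hgs.2⟩
  have hq1 : 1 ≤ q := by omega
  have hMc : ((q ^ 6 * ((q - 1) ^ 2 * ((q + 1) ^ 2 * (q ^ 2 + q + 1))) : ℕ) : ℤ) =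
      (q : ℤ) ^ 6 * ((q : ℤ) - 1) ^ 2 * ((q : ℤ) + 1) ^ 2 * ((q : ℤ) ^ 2 + q + 1) := by
    push_cast [Nat.cast_sub hq1]; ring
  refine card_normalizer hc hm hcent (M := q ^ 6 * ((q - 1) ^ 2 * ((q + 1) ^ 2 * (q ^ 2 + q + 1))))
    (by rw [card_split hF (by omega)]; ring) hs hsN (fun h => ?_) ?_ (by omega)
  · have := Nat.le_of_dvd (by norm_num) h
    omega
  · have h6 : (s : ℤ) ∣ 1 - (q : ℤ) + (q : ℤ) ^ 2 := by
      rw [← hN]; exact Int.natCast_dvd_natCast.2 hsN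
    have h7 : (s : ℤ) ∣ ((q ^ 6 * ((q - 1) ^ 2 * ((q + 1) ^ 2 * (q ^ 2 + q + 1))) : ℕ) : ℤ) - 6 := by
      rw [hMc]
      refine h6.trans ?_
      refine ⟨(q : ℤ) ^ 10 + 2 * q ^ 9 - 4 * q ^ 7 - 5 * q ^ 6 + 6 * q ^ 4 + 6 * q ^ 3 - 6 * q - 6, ?_⟩
      ring
    exact (Nat.modEq_iff_dvd.2 (by
      have := (dvd_neg.2 h7); rw [neg_sub] at this; exact_mod_cast this))

theorem tori3 (hF : Fintype.card F = q) (hq : 3 ≤ q) : TorD ↥(chevG2.group F) (q ^ 2 + q + 1) := by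
  have hfW : Finite CoxeterMatrix.G₂.Group := Nat.finite_of_card_ne_zero (by rw [cardW_G2]; norm_num)
  have hN : ((q ^ 2 + q + 1 : ℕ) : ℤ) = 1 + (q : ℤ) + (q : ℤ) ^ 2 := cast3
  obtain ⟨h2, h5, h9⟩ := N3_not (q := q)
  have h3q : 3 < q ^ 2 + q + 1 := by nlinarith
  obtain ⟨T, hc, hm, hT3, hT4⟩ := H177.OM.untw_inv typeG2 CoxeterMatrix.G₂.toCoxeterSystem (by norm_num) hF
    TorusChar.invC_G2 DataG2.hA DataG2.chainOK DataG2.cycOK DataG2.rootOK (N := q ^ 2 + q + 1)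
    (by rw [DataG2.fN_eq, hN]) (UntwData.coprime_of_eq (a := 1 + (q : ℤ)) (by rw [hN]; ring))
    (H177.OM.rep_neg typeG2 CoxeterMatrix.G₂.toCoxeterSystem DataG2.hA H177.OM.chainG2_ok H177.OM.chainG2_hd)
  have hcent : ∀ y ∈ T, y ^ 3 ≠ 1 → Subgroup.centralizer {y} = T := by
    refine cent_of_prime hc fun k hk hk3 => ?_
    rw [hm] at hk
    obtain ⟨r, hr, hrk, hr3⟩ := exists_prime_ne (t := 3) (N := q ^ 2 + q + 1) (by omega) hk (by norm_num; exact h9) hk3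
    have hg := good_G2_3 hN hr (hrk.trans hk) hr3
    exact ⟨r, hr, hrk, hT3 r hr hg.1 hg.2⟩
  obtain ⟨s, hs, hsN, hs7⟩ := exists_prime_ge_seven h2 h5 h9 h3q
  have hgs := good_G2_3 hN hs hsN (by omega)
  refine ⟨T, hc, hm, hcent, ?_, hT4 s hs hsN hgs.1 hgs.2⟩
  have hq1 : 1 ≤ q := by omega
  have hq2 : q ≤ q ^ 2 := Nat.le_self_pow (by norm_num) q
  have hMc : ((q ^ 6 * ((q - 1) ^ 2 * ((q + 1) ^ 2 * (q ^ 2 - q + 1))) : ℕ) : ℤ) =
      (q : ℤ) ^ 6 * ((q : ℤ) - 1) ^ 2 * ((q : ℤ) + 1) ^ 2 * ((q : ℤ) ^ 2 - q + 1) := by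
    push_cast [Nat.cast_sub hq1, Nat.cast_sub hq2]; ring
  refine card_normalizer hc hm hcent (M := q ^ 6 * ((q - 1) ^ 2 * ((q + 1) ^ 2 * (q ^ 2 - q + 1))))
    (by rw [card_split hF (by omega)]; ring) hs hsN (fun h => ?_) ?_ (by omega)
  · have := Nat.le_of_dvd (by norm_num) h
    omega
  · have h6 : (s : ℤ) ∣ 1 + (q : ℤ) + (q : ℤ) ^ 2 := by
      rw [← hN]; exact Int.natCast_dvd_natCast.2 hsN
    have h7 : (s : ℤ) ∣ ((q ^ 6 * ((q - 1) ^ 2 * ((q + 1) ^ 2 * (q ^ 2 - q + 1))) : ℕ) : ℤ) - 6 := by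
      rw [hMc]
      refine h6.trans ?_
      refine ⟨(q : ℤ) ^ 10 - 2 * q ^ 9 + 4 * q ^ 7 - 5 * q ^ 6 + 6 * q ^ 4 - 6 * q ^ 3 + 6 * q - 6, ?_⟩
      ring
    exact (Nat.modEq_iff_dvd.2 (by
      have := (dvd_neg.2 h7); rw [neg_sub] at this; exact_mod_cast this))

end Cfsg.Agent.H447.TC
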