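import Cfsg.Agent.H447.TC.Tori
import Cfsg.Agent.H641.TC6.GTor

/-!
# The tori of order `q² ± q + 1` of `G₂(q)`: torus data of helper641 with reality (helper447, S2464)
-/

set_option autoImplicit false

open Subgroup Cfsg Cfsg.Lie Cfsg.Agent.H56.Exc Cfsg.Agent.H946.Num Cfsg.Agent.H983.KG2
open Cfsg.Agent.H436 (Prim exists_prim)

namespace Cfsg.Agent.H447.TC

universe u

variable {F : Type u} [Field F] [Fintype F] {q : ℕ}

theorem inv_norm {G : Type*} [Group G] [Finite G] {T : Subgroup G} {n : G} (h : ∀ b ∈ T, n * b * n⁻¹ = b⁻¹) :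
    ∃ k ∈ normalizer (T : Set G), ∀ t ∈ T, k⁻¹ * t * k = t⁻¹ := by
  have h1 : ∀ t ∈ T, n⁻¹ * t * n = t⁻¹ := by
    intro t ht
    have h2 := h t⁻¹ (inv_mem ht)
    rw [inv_inv] at h2
    calc n⁻¹ * t * n = n⁻¹ * (n * t⁻¹ * n⁻¹) * n := by rw [h2]
      _ = t⁻¹ := by group
  refine ⟨n, H641.TC6.mem_norm fun x hx => ?_, h1⟩
  rw [h x hx]
  exact inv_mem hx

/-- **The torus of order `q² + q + 1`, with reality.** -/
theorem tor3_real (hq : Fintype.card F = q) (h3 : 3 ≤ q) :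
    ∃ A T : Subgroup ↥(chevG2.group F), H641.TC6.TorD ↥(chevG2.group F) (N3 q) (c3 q) 6 A T ∧
      ∃ k ∈ normalizer (T : Set ↥(chevG2.group F)), ∀ t ∈ T, k⁻¹ * t * k = t⁻¹ := by
  obtain ⟨r, hr⟩ := exists_prim (q := q) (e := 3) (by omega) le_rfl (by omega)
  have hm : ((N3 q : ℕ) : ℤ) = 1 + (q : ℤ) + (q : ℤ) ^ 2 := by
    unfold N3; push_cast; ring
  have h7 : 6 < r := by
    have hlt := Cfsg.Agent.H56.Exc.prim_lt2 hr (by norm_num) (by norm_num)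
    omega
  obtain ⟨T, h1, hT, -, -, n, hn⟩ := tori3 (F := F) hq h3
  obtain ⟨A, hA⟩ := H641.TC6.exists_torD (G := ↥(chevG2.group F)) (m := N3 q) (w := 6) h1 hT (c3_dvd q)
    (fun s hs hsn => ⟨6, big_G2_3 hq hm (prim_c3 (by omega) hs hsn)⟩) hr.prime (dvd_c3 (by omega) hr)
    (K := (q : ℤ) ^ 6 * ((q : ℤ) ^ 2 - 1) * ((q : ℤ) - 1) * ((q : ℤ) ^ 3 + 1))
    (by rw [ord_G2 hq, hm]; ring) (by push_cast; exact Kap.kap_G2_3 _ (prim_phi_3 hr)) h7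
  exact ⟨A, T, hA, inv_norm hn⟩

/-- **The torus of order `q² - q + 1`, with reality.** -/
theorem tor6_real (hq : Fintype.card F = q) (h3 : 3 ≤ q) :
    ∃ A T : Subgroup ↥(chevG2.group F), H641.TC6.TorD ↥(chevG2.group F) (N6 q) (c6 q) 6 A T ∧
      ∃ k ∈ normalizer (T : Set ↥(chevG2.group F)), ∀ t ∈ T, k⁻¹ * t * k = t⁻¹ := by
  obtain ⟨r, hr⟩ := exists_prim (q := q) (e := 6) (by omega) (by norm_num) (by omega)
  have hm : ((N6 q : ℕ) : ℤ) = 1 - (q : ℤ) + (q : ℤ) ^ 2 := by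
    rw [cast_N6]; ring
  have h7 : 6 < r := Cfsg.Agent.H56.Exc.prim_lt hr (by norm_num)
  obtain ⟨T, h1, hT, -, -, n, hn⟩ := tori6 (F := F) hq h3
  obtain ⟨A, hA⟩ := H641.TC6.exists_torD (G := ↥(chevG2.group F)) (m := N6 q) (w := 6) h1 hT (c6_dvd q)
    (fun s hs hsn => ⟨6, big_G2_6 hq hm (prim_c6 (by omega) hs hsn)⟩) hr.prime (dvd_c6 (by omega) hr)
    (K := (q : ℤ) ^ 6 * ((q : ℤ) ^ 2 - 1) * ((q : ℤ) + 1) * ((q : ℤ) ^ 3 - 1))
    (by rw [ord_G2 hq, hm]; ring) (by push_cast; exact Kap.kap_G2_6 _ (prim_phi_6 hr)) h7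
  exact ⟨A, T, hA, inv_norm hn⟩

/-- Reality of a subgroup `T = C(y)` from a subgroup `T' = C(y')` with `y'` conjugate to `y`. -/
theorem real_of_conj {G : Type*} [Group G] {T T' : Subgroup G} {y g : G} (hT : centralizer {y} = T)
    (hT' : centralizer {g * y * g⁻¹} = T') {n : G} (h : ∀ b ∈ T', n * b * n⁻¹ = b⁻¹) :
    ∃ k : G, ∀ b ∈ T, k * b * k⁻¹ = b⁻¹ := by
  refine ⟨g⁻¹ * n * g, fun b hb => ?_⟩
  have h1 : g * b * g⁻¹ ∈ T' := by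
    rw [← hT, mem_centralizer_singleton_iff] at hb
    rw [← hT', mem_centralizer_singleton_iff]
    calc g * b * g⁻¹ * (g * y * g⁻¹) = g * (b * y) * g⁻¹ := by group
      _ = g * (y * b) * g⁻¹ := by rw [hb]
      _ = g * y * g⁻¹ * (g * b * g⁻¹) := by group
  have h2 := h _ h1
  calc g⁻¹ * n * g * b * (g⁻¹ * n * g)⁻¹ = g⁻¹ * (n * (g * b * g⁻¹) * n⁻¹) * g := by group
    _ = g⁻¹ * (g * b * g⁻¹)⁻¹ * g := by rw [h2]
    _ = b⁻¹ := by group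

end Cfsg.Agent.H447.TC
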